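import Cfsg.Agent.CosetEnum.Lower

/-! Generated coset enumeration certificate: step 2 of the order bound for U4(3). -/

set_option autoImplicit false
set_option maxRecDepth 100000

namespace CfsgLib.U43Mult.Step2

open CfsgLib.CosetEnum

noncomputable def epFLeaf (c : ℕ) : ℕ :=
  0x1410000500001400000400001010000300000c000002000008100000000000000000000003f00000

/-- table entries -/
noncomputable def epF (i : ℕ) : ℕ :=
  ((epFLeaf (i >>> 9)) >>> (48 * (i % 512))) % 281474976710656

noncomputable def nodeFLeaf (c : ℕ) : ℕ :=
  0x500004000030000200000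

/-- table entries -/
noncomputable def nodeF (i : ℕ) : ℕ :=
  ((nodeFLeaf (i >>> 10)) >>> (20 * (i % 1024))) % 1048576

noncomputable def TFLeaf (c : ℕ) : ℕ :=
  0x4000030000200004000030000100000000020000100000

/-- table entries -/
noncomputable def TF (i : ℕ) : ℕ :=
  ((TFLeaf (i >>> 10)) >>> (20 * (i % 1024))) % 1048576

noncomputable def tfFLeaf (c : ℕ) : ℕ :=
  0xc00000b00000900000a000008000007000005000006000004000002

/-- table entries -/
noncomputable def tfF (i : ℕ) : ℕ :=
  ((tfFLeaf (i >>> 10)) >>> (24 * (i % 1024))) % 16777216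

noncomputable def parFLeaf (c : ℕ) : ℕ :=
  0xc000000081000000400000000100000000

/-- table entries -/
noncomputable def parF (i : ℕ) : ℕ :=
  ((parFLeaf (i >>> 10)) >>> (32 * (i % 1024))) % 4294967296

/-- the words: relators, then generators of the subgroup -/
def words : List (List ℕ) := [[0, 0], [1, 1], [0, 1, 0, 1, 0, 1, 0, 1, 0, 1], [1, 0, 1, 0, 1, 0, 1, 0, 1, 0], [0]]

/-- the certificate -/
noncomputable def cert : CertData where
  L := 2
  n := 5
  iv := fun x => x
  words := words
  nr := 4
  ep := epF
  node := nodeF
  T := TF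
  tf := tfF

/-- parents in the table -/
noncomputable def par : ℕ → ℕ := parF

end CfsgLib.U43Mult.Step2
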