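import Cfsg.Agent.U43Mult.Step2.Data

/-! Generated: checks of facts. -/

set_option autoImplicit false
set_option maxRecDepth 100000

namespace CfsgLib.U43Mult.Step2

open CfsgLib.CosetEnum

theorem facts0 : checkFacts epF (fun x => x) words 4 0 [0x1, 0x500003, 0x0, 0x0, 0x0, 0x0, 0xa000080000600004000020000500007000090000b0000900005000030000c] = true := by
  decide +kernel

theorem factsUpTo7 (h : FactsChecked cert.ep cert.iv cert.words cert.nr 0) :
    FactsChecked cert.ep cert.iv cert.words cert.nr 7 :=
  (FactsChecked.app _ 7 h facts0 rfl)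

end CfsgLib.U43Mult.Step2
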